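import Mathlib.Algebra.Homology.DerivedCategory.TStructure
import Mathlib.Algebra.Homology.DerivedCategory.FullyFaithful
import Mathlib.CategoryTheory.Triangulated.TStructure.TruncLTGE

/-!
Truncations in the derived category: cohomology of truncations, maps from `≤ n` to `≥ n`,
factorisations through truncations.
-/

set_option autoImplicit false

universe w v u

open CategoryTheory CategoryTheory.Limits CategoryTheory.Pretriangulated CategoryTheory.Triangulated
open DerivedCategory.TStructure

namespace Groth.Agent.DerTrunc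

variable {A : Type u} [Category.{v} A] [Abelian A] [HasDerivedCategory.{w} A]

local notation "HH" => DerivedCategory.homologyFunctor A

theorem isIso_map_mor₁ (T : Triangle (DerivedCategory A)) (hT : T ∈ distTriang _) (i : ℤ)
    (h₀ : IsZero ((HH (i - 1)).obj T.obj₃)) (h₁ : IsZero ((HH i).obj T.obj₃)) :
    IsIso ((HH i).map T.mor₁) := by
  have : Mono ((HH i).map T.mor₁) :=
    (DerivedCategory.HomologySequence.mono_homologyMap_mor₁_iff T hT (i - 1) i (by lia)).2
      (h₀.eq_of_src _ _)
  have : Epi ((HH i).map T.mor₁) :=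
    (DerivedCategory.HomologySequence.epi_homologyMap_mor₁_iff T hT i).2 (h₁.eq_of_tgt _ _)
  exact isIso_of_mono_of_epi _

theorem isIso_map_mor₂ (T : Triangle (DerivedCategory A)) (hT : T ∈ distTriang _) (i : ℤ)
    (h₀ : IsZero ((HH i).obj T.obj₁)) (h₁ : IsZero ((HH (i + 1)).obj T.obj₁)) :
    IsIso ((HH i).map T.mor₂) := by
  have : Mono ((HH i).map T.mor₂) :=
    (DerivedCategory.HomologySequence.mono_homologyMap_mor₂_iff T hT i).2 (h₀.eq_of_src _ _)
  have : Epi ((HH i).map T.mor₂) :=
    (DerivedCategory.HomologySequence.epi_homologyMap_mor₂_iff T hT i (i + 1)).2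
      (h₁.eq_of_tgt _ _)
  exact isIso_of_mono_of_epi _

theorem isIso_homology_truncLTι (X : DerivedCategory A) (n i : ℤ) (hi : i < n) :
    IsIso ((HH i).map ((t.truncLTι n).app X)) := by
  have : DerivedCategory.IsGE ((t.truncGE n).obj X) n :=
    (inferInstance : t.IsGE ((t.truncGE n).obj X) n)
  exact isIso_map_mor₁ _ (t.triangleLTGE_distinguished n X) i
    (DerivedCategory.isZero_of_isGE _ n _ (by lia)) (DerivedCategory.isZero_of_isGE _ n _ hi)

theorem isIso_homology_truncGEπ (X : DerivedCategory A) (n i : ℤ) (hi : n ≤ i) :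
    IsIso ((HH i).map ((t.truncGEπ n).app X)) := by
  have : DerivedCategory.IsLE ((t.truncLT n).obj X) (n - 1) :=
    (inferInstance : t.IsLE ((t.truncLT n).obj X) (n - 1))
  exact isIso_map_mor₂ _ (t.triangleLTGE_distinguished n X) i
    (DerivedCategory.isZero_of_isLE _ (n - 1) _ (by lia))
    (DerivedCategory.isZero_of_isLE _ (n - 1) _ (by lia))

/-- A morphism between objects concentrated in degree `n` is zero if it is zero on `Hⁿ`. -/
theorem hom_eq_zero_of_concentrated {P R : DerivedCategory A} (n : ℤ) [P.IsGE n] [P.IsLE n]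
    [R.IsGE n] [R.IsLE n] (f : P ⟶ R) (hf : (HH n).map f = 0) : f = 0 := by
  obtain ⟨Y, ⟨eP⟩⟩ := DerivedCategory.exists_iso_singleFunctor_obj_of_isGE_of_isLE P n
  obtain ⟨Y', ⟨eR⟩⟩ := DerivedCategory.exists_iso_singleFunctor_obj_of_isGE_of_isLE R n
  obtain ⟨g, hg⟩ := (DerivedCategory.singleFunctor A n).map_surjective (eP.inv ≫ f ≫ eR.hom)
  have h1 : (HH n).map ((DerivedCategory.singleFunctor A n).map g) = 0 := by
    rw [hg, Functor.map_comp, Functor.map_comp, hf, zero_comp, comp_zero]
  have hg0 : g = 0 := by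
    have := (DerivedCategory.singleFunctorCompHomologyFunctorIso A n).hom.naturality g
    dsimp at this
    rw [h1, zero_comp] at this
    rw [← cancel_epi ((DerivedCategory.singleFunctorCompHomologyFunctorIso A n).hom.app Y), comp_zero]
    exact this.symm
  rw [← cancel_epi eP.inv, ← cancel_mono eR.hom, Category.assoc, ← hg, hg0]
  simp

/-- A morphism from an object `≤ n` to an object `≥ n` is zero iff it is zero on `Hⁿ`. -/
theorem hom_eq_zero_of_isLE_of_isGE {P R : DerivedCategory A} (n : ℤ) [P.IsLE n] [R.IsGE n]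
    (f : P ⟶ R) (hf : (HH n).map f = 0) : f = 0 := by
  obtain ⟨g, rfl⟩ : ∃ g, (t.truncGEπ n).app P ≫ g = f :=
    ⟨t.descTruncGE f n, t.π_descTruncGE f n⟩
  have : t.IsLE ((t.truncGE n).obj P) n := inferInstance
  obtain ⟨m, rfl⟩ : ∃ m, m ≫ (t.truncLTι (n + 1)).app R = g :=
    ⟨t.liftTruncLT g n (n + 1) rfl, t.liftTruncLT_ι g n (n + 1) rfl⟩
  have : t.IsGE ((t.truncLT (n + 1)).obj R) n := inferInstanceAs (t.IsGE ((t.truncLT (n + 1)).obj R) n)
  have := isIso_homology_truncGEπ P n n le_rfl
  have := isIso_homology_truncLTι R (n + 1) n (by lia)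
  rw [Functor.map_comp, Functor.map_comp] at hf
  have hm : (HH n).map m = 0 := by
    rw [← cancel_epi ((HH n).map ((t.truncGEπ n).app P)), comp_zero,
      ← cancel_mono ((HH n).map ((t.truncLTι (n + 1)).app R)), zero_comp, Category.assoc]
    exact hf
  rw [hom_eq_zero_of_concentrated n m hm, zero_comp, comp_zero]

section complexes

open DerivedCategory

theorem homology_map_Q_eq_zero {K L : CochainComplex A ℤ} (f : K ⟶ L) (n : ℤ)
    (hf : HomologicalComplex.homologyMap f n = 0) : (HH n).map (Q.map f) = 0 := by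
  rw [← cancel_mono ((homologyFunctorFactors A n).hom.app L), homologyFunctorFactors_hom_naturality,
    hf]
  exact comp_zero.trans zero_comp.symm

theorem exists_fac_ιTruncLE (K : CochainComplex A ℤ) (n₀ n₁ : ℤ) (h : n₀ + 1 = n₁)
    {P : DerivedCategory A} (f : P ⟶ Q.obj K) (hf : f ≫ Q.map (K.πTruncGE n₁) = 0) :
    ∃ φ : P ⟶ Q.obj (K.truncLE n₀), φ ≫ Q.map (K.ιTruncLE n₀) = f := by
  have hS := K.shortComplexTruncLE_shortExact n₀
  have hg : Q.map (K.shortComplexTruncLE n₀).g ≫ Q.map (K.shortComplexTruncLEX₃ToTruncGE n₀ n₁ h) =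
      Q.map (K.πTruncGE n₁) :=
    (Q.map_comp _ _).symm.trans (congrArg Q.map (K.g_shortComplexTruncLEX₃ToTruncGE n₀ n₁ h))
  have hf' : f ≫ Q.map (K.shortComplexTruncLE n₀).g = 0 := by
    rw [← cancel_mono (Q.map (K.shortComplexTruncLEX₃ToTruncGE n₀ n₁ h)), zero_comp]
    exact ((Category.assoc _ _ _).trans (congrArg (f ≫ ·) hg)).trans hf
  obtain ⟨φ, hφ⟩ := Triangle.coyoneda_exact₂ _ (triangleOfSES_distinguished hS) f hf'
  exact ⟨φ, hφ.symm⟩

theorem exists_fac_πTruncGE (K : CochainComplex A ℤ) (n₀ n₁ : ℤ) (h : n₀ + 1 = n₁)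
    {R : DerivedCategory A} (f : Q.obj K ⟶ R) (hf : Q.map (K.ιTruncLE n₀) ≫ f = 0) :
    ∃ φ : Q.obj (K.truncGE n₁) ⟶ R, Q.map (K.πTruncGE n₁) ≫ φ = f := by
  have hS := K.shortComplexTruncLE_shortExact n₀
  obtain ⟨φ, hφ⟩ := Triangle.yoneda_exact₂ _ (triangleOfSES_distinguished hS) f hf
  refine ⟨inv (Q.map (K.shortComplexTruncLEX₃ToTruncGE n₀ n₁ h)) ≫ φ, ?_⟩
  have hg : Q.map (K.shortComplexTruncLE n₀).g ≫ Q.map (K.shortComplexTruncLEX₃ToTruncGE n₀ n₁ h) =
      Q.map (K.πTruncGE n₁) :=
    (Q.map_comp _ _).symm.trans (congrArg Q.map (K.g_shortComplexTruncLEX₃ToTruncGE n₀ n₁ h))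
  refine (congrArg (· ≫ _) hg.symm).trans ?_
  refine (Category.assoc _ _ _).trans ((congrArg (_ ≫ ·) (IsIso.hom_inv_id_assoc _ _)).trans ?_)
  exact hφ.symm

end complexes

/-- An endomorphism of an object of amplitude `[a, a+n]` vanishing on cohomology is nilpotent. -/
theorem pow_eq_zero (n : ℕ) : ∀ (X : DerivedCategory A) (a : ℤ), X.IsGE a → X.IsLE (a + n) →
    ∀ (f : CategoryTheory.End X), (∀ i : ℤ, (HH i).map f = 0) → f ^ (n + 1) = 0 := by
  induction n with
  | zero =>
    intro X a ha hb f hf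
    have : X.IsLE a := by simpa using hb
    rw [pow_one]
    exact hom_eq_zero_of_concentrated a f (hf a)
  | succ n ih =>
    intro X a ha hb f hf
    obtain ⟨b, hbdef⟩ : ∃ b : ℤ, a + (n + 1 : ℕ) = b := ⟨_, rfl⟩
    rw [hbdef] at hb
    have hL : DerivedCategory.IsLE ((t.truncLT b).obj X) (a + n) :=
      t.isLE_truncLT_obj X b (a + n) (by lia)
    have hG : DerivedCategory.IsGE ((t.truncLT b).obj X) a :=
      (inferInstance : t.IsGE ((t.truncLT b).obj X) a)
    have hG₃ : DerivedCategory.IsGE ((t.truncGE b).obj X) b :=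
      (inferInstance : t.IsGE ((t.truncGE b).obj X) b)
    have hL₃ : DerivedCategory.IsLE ((t.truncGE b).obj X) b :=
      (inferInstance : t.IsLE ((t.truncGE b).obj X) b)
    let fL : End ((t.truncLT b).obj X) := (t.truncLT b).map f
    have hι : ∀ k : ℕ, CategoryStruct.comp (fL ^ k) ((t.truncLTι b).app X) =
        CategoryStruct.comp ((t.truncLTι b).app X) (f ^ k) := by
      intro k
      induction k with
      | zero =>
        rw [pow_zero, pow_zero]
        exact (Category.id_comp _).trans (Category.comp_id _).symm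
      | succ k hk =>
        rw [pow_succ, pow_succ]
        change ((t.truncLT b).map f ≫ (fL ^ k : End _)) ≫ _ = _ ≫ f ≫ (f ^ k : End X)
        rw [Category.assoc, hk, ← Category.assoc, ← Category.assoc]
        exact congrArg (· ≫ (f ^ k : End X)) ((t.truncLTι b).naturality f)
    have h1 : fL ^ (n + 1) = 0 := by
      refine ih _ a hG hL _ fun i => ?_
      by_cases hi : i < b
      · have := isIso_homology_truncLTι X b i hi
        rw [← cancel_mono ((HH i).map ((t.truncLTι b).app X)), zero_comp, ← Functor.map_comp]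
        erw [(t.truncLTι b).naturality f]
        rw [Functor.map_comp]
        exact (congrArg (_ ≫ ·) (hf i)).trans comp_zero
      · exact (DerivedCategory.isZero_of_isLE _ (a + n) i (by lia)).eq_of_src _ _
    have h3 : (t.truncGE b).map f = 0 := by
      refine hom_eq_zero_of_concentrated b _ ?_
      have := isIso_homology_truncGEπ X b b le_rfl
      rw [← cancel_epi ((HH b).map ((t.truncGEπ b).app X)), comp_zero, ← Functor.map_comp]
      erw [← (t.truncGEπ b).naturality f]
      rw [Functor.map_comp]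
      exact (congrArg (· ≫ _) (hf b)).trans zero_comp
    obtain ⟨g, hg⟩ := Triangle.coyoneda_exact₂ _ (t.triangleLTGE_distinguished b X) f (by
      change f ≫ (t.truncGEπ b).app X = 0
      exact ((t.truncGEπ b).naturality f).trans ((congrArg (_ ≫ ·) h3).trans comp_zero))
    rw [pow_succ]
    change f ≫ (f ^ (n + 1) : End X) = 0
    calc f ≫ (f ^ (n + 1) : End X)
        = (g ≫ (t.truncLTι b).app X) ≫ (f ^ (n + 1) : End X) := congrArg (· ≫ (f ^ (n + 1) : End X)) hg
      _ = g ≫ (fL ^ (n + 1) : End _) ≫ (t.truncLTι b).app X :=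
          (Category.assoc _ _ _).trans (congrArg (g ≫ ·) (hι (n + 1)).symm)
      _ = 0 := by
          rw [h1]
          exact (congrArg (g ≫ ·) zero_comp).trans comp_zero

end Groth.Agent.DerTrunc
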